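import Cfsg.Agent.H694.CoxExc

/-!
# Counting with a search tree of encoded functionals

A functional `x : Fin l → ℤ` with values in `[-2, 2]` is encoded as `∑ (x j + 8) 16 ^ j`.  The orbit of a
fundamental functional is given by a search tree, so that the closure check is fast.
-/

set_option autoImplicit false

namespace Cfsg.Agent.H177.EB

open Cfsg.Agent.ChevalleyStructure.CoxeterGeom Cfsg.Agent.Tits.Core Cfsg.Agent.Tits.OppRes
open Cfsg.Agent.H694

/-- binary search trees -/
inductive Tr where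
  | e : Tr
  | n (l : Tr) (k : ℕ) (r : Tr) : Tr

namespace Tr

/-- a leaf with a key -/
def f (k : ℕ) : Tr := .n .e k .e

/-- search -/
def mem : Tr → ℕ → Bool
  | .e, _ => false
  | .n l k r, x => bif Nat.blt x k then l.mem x else bif Nat.beq x k then true else r.mem x

/-- the keys -/
def toList : Tr → List ℕ
  | .e => []
  | .n l k r => l.toList ++ k :: r.toList

/-- the tree is a search tree with keys strictly between `lo` and `hi` -/
def ok : Tr → ℕ → ℕ → Bool
  | .e, _, _ => true
  | .n l k r, lo, hi => Nat.blt lo k && Nat.blt k hi && l.ok lo k && r.ok k hi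

/-- all keys satisfy `p` -/
def all : Tr → (ℕ → Bool) → Bool
  | .e, _ => true
  | .n l k r, p => p k && l.all p && r.all p

theorem mem_toList {t : Tr} {x : ℕ} (h : t.mem x = true) : x ∈ t.toList := by
  induction t with
  | e => simp [mem] at h
  | n l k r ihl ihr =>
    rw [mem] at h
    rw [toList, List.mem_append, List.mem_cons]
    rcases hb : Nat.blt x k with _ | _
    · rw [hb, cond_false] at h
      rcases he : Nat.beq x k with _ | _
      · rw [he, cond_false] at h
        exact Or.inr (Or.inr (ihr h))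
      · exact Or.inr (Or.inl (Nat.eq_of_beq_eq_true he))
    · rw [hb, cond_true] at h
      exact Or.inl (ihl h)

theorem all_toList {t : Tr} {p : ℕ → Bool} (h : t.all p = true) : ∀ x ∈ t.toList, p x = true := by
  induction t with
  | e => intro x hx; simp [toList] at hx
  | n l k r ihl ihr =>
    rw [all, Bool.and_eq_true, Bool.and_eq_true] at h
    intro x hx
    rw [toList, List.mem_append, List.mem_cons] at hx
    rcases hx with hx | rfl | hx
    · exact ihl h.1.2 x hx
    · exact h.1.1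
    · exact ihr h.2 x hx

theorem ok_bounds {t : Tr} {lo hi : ℕ} (h : t.ok lo hi = true) :
    ∀ x ∈ t.toList, lo < x ∧ x < hi := by
  induction t generalizing lo hi with
  | e => intro x hx; simp [toList] at hx
  | n l k r ihl ihr =>
    rw [ok, Bool.and_eq_true, Bool.and_eq_true, Bool.and_eq_true] at h
    obtain ⟨⟨⟨h1, h2⟩, h3⟩, h4⟩ := h
    have e1 : lo < k := Nat.blt_eq ▸ h1
    have e2 : k < hi := Nat.blt_eq ▸ h2
    intro x hx
    rw [toList, List.mem_append, List.mem_cons] at hx
    rcases hx with hx | rfl | hx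
    · obtain ⟨a1, a2⟩ := ihl h3 x hx
      omega
    · exact ⟨e1, e2⟩
    · obtain ⟨a1, a2⟩ := ihr h4 x hx
      omega

theorem ok_nodup {t : Tr} {lo hi : ℕ} (h : t.ok lo hi = true) : t.toList.Nodup := by
  induction t generalizing lo hi with
  | e => simp [toList]
  | n l k r ihl ihr =>
    rw [ok, Bool.and_eq_true, Bool.and_eq_true, Bool.and_eq_true] at h
    obtain ⟨⟨⟨h1, h2⟩, h3⟩, h4⟩ := h
    rw [toList, List.nodup_append, List.nodup_cons]
    refine ⟨ihl h3, ⟨fun hk => ?_, ihr h4⟩, fun a ha b hb hab => ?_⟩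
    · have := (ok_bounds h4 k hk).1
      omega
    · have a1 := (ok_bounds h3 a ha).2
      rcases List.mem_cons.1 hb with rfl | hb'
      · omega
      · have a2 := (ok_bounds h4 b hb').1
        omega

end Tr

/-- the digit of `n` at place `j` -/
def dg (n j : ℕ) : ℕ := n / 16 ^ j % 16

theorem dg_lt (n j : ℕ) : dg n j < 16 := Nat.mod_lt _ (by norm_num)

theorem dg_zero (n : ℕ) : dg n 0 = n % 16 := by simp [dg]

theorem dg_succ (n j : ℕ) : dg n (j + 1) = dg (n / 16) j := by
  rw [dg, dg, pow_succ', Nat.div_div_eq_div_mul]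

theorem eq_of_dg {l : ℕ} : ∀ {n m : ℕ}, n < 16 ^ l → m < 16 ^ l → (∀ j < l, dg n j = dg m j) → n = m := by
  induction l with
  | zero =>
    intro n m hn hm _
    simp at hn hm
    omega
  | succ l ih =>
    intro n m hn hm h
    have h0 := h 0 (Nat.succ_pos _)
    rw [dg_zero, dg_zero] at h0
    have h1 : n / 16 = m / 16 := by
      refine ih ?_ ?_ fun j hj => ?_
      · rw [pow_succ'] at hn
        exact Nat.div_lt_of_lt_mul hn
      · rw [pow_succ'] at hm
        exact Nat.div_lt_of_lt_mul hm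
      · rw [← dg_succ, ← dg_succ]
        exact h (j + 1) (Nat.succ_lt_succ hj)
    omega

/-- The digits of a sum of small multiples of powers of sixteen. -/
theorem dg_sum {l : ℕ} : ∀ (x : ℕ → ℕ), (∀ j < l, x j < 16) → ∀ j < l,
    dg (∑ k ∈ Finset.range l, x k * 16 ^ k) j = x j := by
  induction l with
  | zero => intro x _ j hj; omega
  | succ l ih =>
    intro x hx j hj
    have e : ∑ k ∈ Finset.range (l + 1), x k * 16 ^ k =
        x 0 + 16 * ∑ k ∈ Finset.range l, x (k + 1) * 16 ^ k := by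
      rw [Finset.sum_range_succ', Finset.mul_sum, add_comm]
      congr 1
      · simp
      · exact Finset.sum_congr rfl fun k _ => by ring
    have h0 : x 0 < 16 := hx 0 (Nat.succ_pos _)
    rw [e]
    rcases j with _ | j
    · rw [dg_zero]
      omega
    · rw [dg_succ]
      have : (x 0 + 16 * ∑ k ∈ Finset.range l, x (k + 1) * 16 ^ k) / 16 =
          ∑ k ∈ Finset.range l, x (k + 1) * 16 ^ k := by omega
      rw [this]
      exact ih (fun k => x (k + 1)) (fun k hk => hx (k + 1) (Nat.succ_lt_succ hk)) j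
        (Nat.lt_of_succ_lt_succ hj)

theorem sum_dg {l n : ℕ} (hn : n < 16 ^ l) : n = ∑ k ∈ Finset.range l, dg n k * 16 ^ k := by
  have hlt : ∑ k ∈ Finset.range l, dg n k * 16 ^ k < 16 ^ l := by
    clear hn
    induction l with
    | zero => simp
    | succ l ih =>
      rw [Finset.sum_range_succ, pow_succ']
      have := dg_lt n l
      have h2 : dg n l * 16 ^ l ≤ 15 * 16 ^ l := Nat.mul_le_mul_right _ (by omega)
      omega
  refine eq_of_dg hn hlt fun j hj => ?_
  exact (dg_sum (fun k => dg n k) (fun k _ => dg_lt n k) j hj).symm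

/-- the reflection on codes; `p i` and `m i` are the codes of the positive and the negative part of the row
of the Cartan matrix -/
def rf (p m : ℕ → ℕ) (n i : ℕ) : ℕ := (n + 8 * p i + dg n i * m i) - (8 * m i + dg n i * p i)

theorem dg_rf {l : ℕ} {A : Fin l → Fin l → ℤ} (hA : ∀ i j, |A i j| ≤ 2) {p m : ℕ → ℕ}
    (hpm : ∀ i : Fin l, (p i : ℤ) - m i = ∑ j : Fin l, A i j * 16 ^ (j : ℕ)) {n : ℕ}
    (hn : n < 16 ^ l) (hb : ∀ j < l, 6 ≤ dg n j ∧ dg n j ≤ 10) (i : Fin l) :
    rf p m n i < 16 ^ l ∧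
      ∀ j : Fin l, (dg (rf p m n i) j : ℤ) = dg n j - A i j * ((dg n i : ℤ) - 8) := by
  classical
  let x : ℕ → ℕ := fun j => if hj : j < l then ((dg n j : ℤ) - A i ⟨j, hj⟩ * ((dg n i : ℤ) - 8)).toNat else 0
  have hx0 : ∀ j : Fin l, 0 ≤ (dg n j : ℤ) - A i j * ((dg n i : ℤ) - 8) ∧
      (dg n j : ℤ) - A i j * ((dg n i : ℤ) - 8) < 16 := by
    intro j
    have b1 := hb j j.2
    have b2 := hb i i.2
    have b3 : |(dg n i : ℤ) - 8| ≤ 2 := by rw [abs_le]; omega
    have b4 : |A i j * ((dg n i : ℤ) - 8)| ≤ 4 := by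
      rw [abs_mul]
      have := hA i j
      have c1 := abs_nonneg (A i j)
      have c2 := abs_nonneg ((dg n i : ℤ) - 8)
      nlinarith
    rw [abs_le] at b4
    omega
  have hx : ∀ j : Fin l, (x j : ℤ) = dg n j - A i j * ((dg n i : ℤ) - 8) := by
    intro j
    show ((if hj : (j : ℕ) < l then _ else _ : ℕ) : ℤ) = _
    rw [dif_pos j.2, Int.toNat_of_nonneg (hx0 j).1]
  have hx16 : ∀ j < l, x j < 16 := by
    intro j hj
    have h1 := hx ⟨j, hj⟩
    have h2 := (hx0 ⟨j, hj⟩).2
    simp only at h1 h2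
    rw [← h1] at h2
    exact_mod_cast h2
  have key : rf p m n i = ∑ k ∈ Finset.range l, x k * 16 ^ k := by
    have e1 : ((∑ k ∈ Finset.range l, x k * 16 ^ k : ℕ) : ℤ) =
        n + 8 * p i + dg n i * m i - (8 * m i + dg n i * p i) := by
      have e2 : (n : ℤ) = ∑ k : Fin l, (dg n k : ℤ) * 16 ^ (k : ℕ) := by
        conv_lhs => rw [sum_dg hn]
        rw [Finset.sum_range]
        push_cast
        rfl
      have e3 : (n : ℤ) + 8 * p i + dg n i * m i - (8 * m i + dg n i * p i) =
          n - ((dg n i : ℤ) - 8) * ((p i : ℤ) - m i) := by ring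
      rw [e3, hpm, Finset.sum_range, Finset.mul_sum]
      conv_rhs => rw [e2]
      rw [← Finset.sum_sub_distrib]
      push_cast
      refine Finset.sum_congr rfl fun k _ => ?_
      rw [hx]
      ring
    have e4 : 8 * m i + dg n i * p i ≤ n + 8 * p i + dg n i * m i := by
      have h5 : (0 : ℤ) ≤ ((∑ k ∈ Finset.range l, x k * 16 ^ k : ℕ) : ℤ) := Int.natCast_nonneg _
      rw [e1] at h5
      zify
      linarith
    have e5 : ((rf p m n i : ℕ) : ℤ) = ((∑ k ∈ Finset.range l, x k * 16 ^ k : ℕ) : ℤ) := by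
      rw [e1, rf, Nat.cast_sub e4]
      push_cast
      ring
    exact_mod_cast e5
  constructor
  · rw [key]
    have : ∀ l : ℕ, (∀ j < l, x j < 16) → ∑ k ∈ Finset.range l, x k * 16 ^ k < 16 ^ l := by
      intro l
      induction l with
      | zero => intro _; simp
      | succ l ih =>
        intro hl
        have i1 := ih fun j hj => hl j (Nat.lt_succ_of_lt hj)
        have i2 := hl l (Nat.lt_succ_self l)
        rw [Finset.sum_range_succ, pow_succ']
        have h2 : x l * 16 ^ l ≤ 15 * 16 ^ l := Nat.mul_le_mul_right _ (by omega)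
        omega
    exact this l hx16
  · intro j
    rw [key, dg_sum x hx16 j j.2, hx]

/-- the check for one code -/
def chk (l : ℕ) (p m : ℕ → ℕ) (t : Tr) (n₀ n : ℕ) : Bool :=
  Nat.blt n (16 ^ l) &&
  ((List.range l).all fun j => Nat.ble 6 (dg n j) && Nat.ble (dg n j) 10) &&
  (Nat.beq n n₀ || (List.range l).any fun i => Nat.blt (dg n i) 8) &&
  ((List.range l).all fun i => Nat.beq (dg n i) 8 || t.mem (rf p m n i))

/-- dominance away from the node `k` -/
def dom (l k n : ℕ) : Bool := (List.range l).all fun j => Nat.beq j k || Nat.ble 8 (dg n j)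

theorem count_tree {l : ℕ} {M : CoxeterMatrix (Fin l)} {A : Fin l → Fin l → ℤ}
    (h : IsCartan M A) (t : Tr) (n₀ k : ℕ) (p m : ℕ → ℕ) (v : Fin l → ℤ)
    (hA : ∀ i j, |A i j| ≤ 2)
    (hpm : ∀ i : Fin l, (p i : ℤ) - m i = ∑ j : Fin l, A i j * 16 ^ (j : ℕ))
    (hv : ∀ i, 0 < ∑ j, v j * A i j)
    (h0 : t.mem n₀ = true) (hdom : ∀ i : Fin l, if (i : ℕ) = k then 8 < dg n₀ i else dg n₀ i = 8)
    (hchk : t.all (chk l p m t n₀) = true) (hok : t.ok 0 (16 ^ l) = true)
    {W : Type*} [Group W] [Finite W] (cs : CoxeterSystem M W) :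
    (WJ cs {i | (i : ℕ) ≠ k}).index = t.toList.length ∧
      Nat.card (DoubleCoset.Quotient (WJ cs {i | (i : ℕ) ≠ k} : Set W)
        (WJ cs {i | (i : ℕ) ≠ k} : Set W)) = (t.toList.filter (dom l k)).length := by
  classical
  have hall := Tr.all_toList hchk
  have g1 : ∀ n ∈ t.toList, n < 16 ^ l := by
    intro n hn
    exact (Tr.ok_bounds hok n hn).2
  have g2 : ∀ n ∈ t.toList, ∀ j < l, 6 ≤ dg n j ∧ dg n j ≤ 10 := by
    intro n hn j hj
    have := hall n hn
    simp only [chk, Bool.and_eq_true, List.all_eq_true, List.mem_range] at this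
    obtain ⟨a1, a2⟩ := this.1.1.2 j hj
    exact ⟨Nat.le_of_ble_eq_true a1, Nat.le_of_ble_eq_true a2⟩
  have g3 : ∀ n ∈ t.toList, n ≠ n₀ → ∃ i : Fin l, dg n i < 8 := by
    intro n hn hne
    have := hall n hn
    simp only [chk, Bool.and_eq_true, Bool.or_eq_true, List.any_eq_true, List.mem_range] at this
    rcases this.1.2 with h1 | ⟨i, hi, h1⟩
    · exact absurd (Nat.eq_of_beq_eq_true h1) hne
    · exact ⟨⟨i, hi⟩, Nat.blt_eq ▸ h1⟩
  have g4 : ∀ n ∈ t.toList, ∀ i : Fin l, rf p m n i ∈ t.toList := by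
    intro n hn i
    have := hall n hn
    simp only [chk, Bool.and_eq_true, Bool.or_eq_true, List.all_eq_true, List.mem_range] at this
    rcases this.2 i i.2 with h1 | h1
    · have h2 := Nat.eq_of_beq_eq_true h1
      have h3 : rf p m n i = n := by
        rw [rf, h2]
        omega
      rw [h3]
      exact hn
    · exact Tr.mem_toList h1
  let Y := {n : ℕ // n ∈ t.toList}
  let φ : Y → Fin l → ℤ := fun y j => (dg y.1 j : ℤ) - 8
  have hφ : Function.Injective φ := by
    rintro ⟨n, hn⟩ ⟨m, hm⟩ hh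
    apply Subtype.ext
    refine eq_of_dg (g1 n hn) (g1 m hm) fun j hj => ?_
    have h7 : ((dg n j : ℕ) : ℤ) - 8 = (dg m j : ℤ) - 8 := congrFun hh ⟨j, hj⟩
    show dg n j = dg m j
    omega
  have hset : {i : Fin l | (dg n₀ i : ℤ) - 8 = 0} = {i : Fin l | (i : ℕ) ≠ k} := by
    ext i
    have := hdom i
    simp only [Set.mem_ofPred_eq]
    split_ifs at this with hik
    · constructor
      · intro h1; omega
      · intro h1; exact absurd hik h1
    · constructor
      · intro _; exact hik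
      · intro _; omega
  have hdom' : ∀ i : Fin l, 0 ≤ (dg n₀ i : ℤ) - 8 := by
    intro i
    have := hdom i
    split_ifs at this with hik <;> omega
  let C : ℤ := ∑ j : Fin l, 2 * |v j|
  let rk : Y → ℕ := fun y => (C - ∑ j, v j * φ y j).toNat
  have hrk : ∀ y : Y, 0 ≤ C - ∑ j, v j * φ y j := by
    intro y
    rw [← Finset.sum_sub_distrib]
    refine Finset.sum_nonneg fun j _ => ?_
    have b := g2 y.1 y.2 j j.2
    have b1 : |φ y j| ≤ 2 := by
      simp only [φ]
      rw [abs_le]
      omega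
    have b2 : v j * φ y j ≤ |v j| * |φ y j| := by
      rw [← abs_mul]
      exact le_abs_self _
    have := abs_nonneg (v j)
    nlinarith
  have hs : ∀ (i : Fin l) (y : Y) (j : Fin l),
      φ (⟨rf p m y.1 i, g4 y.1 y.2 i⟩ : Y) j = φ y j - A i j * φ y i := by
    intro i y j
    simp only [φ]
    rw [(dg_rf hA hpm (g1 y.1 y.2) (g2 y.1 y.2) i).2 j]
    ring
  obtain ⟨k1, k2⟩ := count cs h (c := fun i => (dg n₀ i : ℤ) - 8) hdom' φ hφ
    ⟨n₀, Tr.mem_toList h0⟩ rfl (fun i y => ⟨rf p m y.1 i, g4 y.1 y.2 i⟩) hs rk (fun y hy => by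
      obtain ⟨i, hi⟩ := g3 y.1 y.2 fun h1 => hy (Subtype.ext h1)
      refine ⟨i, ?_⟩
      have e1 : ∑ j, v j * φ (⟨rf p m y.1 i, g4 y.1 y.2 i⟩ : Y) j =
          ∑ j, v j * φ y j - (∑ j, v j * A i j) * φ y i := by
        rw [Finset.sum_mul, ← Finset.sum_sub_distrib]
        refine Finset.sum_congr rfl fun j _ => ?_
        rw [hs]
        ring
      have e2 : φ y i < 0 := by
        simp only [φ]
        omega
      have e3 := mul_neg_of_pos_of_neg (hv i) e2
      have e4 := hrk (⟨rf p m y.1 i, g4 y.1 y.2 i⟩ : Y)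
      show (C - ∑ j, v j * φ (⟨rf p m y.1 i, g4 y.1 y.2 i⟩ : Y) j).toNat <
        (C - ∑ j, v j * φ y j).toNat
      rw [e1] at e4 ⊢
      omega)
  rw [hset] at k1 k2
  have hcard : ∀ L' : List ℕ, L'.Nodup → Nat.card {n : ℕ // n ∈ L'} = L'.length := by
    intro L' hL'
    rw [← List.toFinset_card_of_nodup hL', ← Nat.card_eq_finsetCard]
    exact Nat.card_congr (Equiv.subtypeEquivRight fun n => by simp)
  have hnd := Tr.ok_nodup hok
  refine ⟨k1.trans (hcard _ hnd), (k2 _).trans ?_⟩
  rw [← hcard _ (hnd.filter _)]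
  have hiff : ∀ n, dom l k n = true ↔ ∀ i ∈ {i : Fin l | (i : ℕ) ≠ k}, 0 ≤ (dg n i : ℤ) - 8 := by
    intro n
    simp only [dom, List.all_eq_true, List.mem_range, Bool.or_eq_true, Set.mem_ofPred_eq]
    constructor
    · intro h1 i hi
      rcases h1 i i.2 with h2 | h2
      · exact absurd (Nat.eq_of_beq_eq_true h2) hi
      · have := Nat.le_of_ble_eq_true h2
        omega
    · intro h1 j hj
      by_cases hjk : j = k
      · left
        rw [hjk]
        exact Nat.beq_refl k
      · right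
        have := h1 ⟨j, hj⟩ hjk
        simp only at this
        exact Nat.ble_eq_true_of_le (by omega)
  refine Nat.card_congr ⟨fun y => ⟨y.1.1, ?_⟩, fun y => ⟨⟨y.1, (List.mem_filter.1 y.2).1⟩, ?_⟩,
    fun y => rfl, fun y => rfl⟩
  · rw [List.mem_filter]
    exact ⟨y.1.2, (hiff _).2 fun i hi => y.2 i hi⟩
  · exact (hiff _).1 (List.mem_filter.1 y.2).2

end Cfsg.Agent.H177.EB
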